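set_option autoImplicit false
namespace Cfsg.Agent.Lib.Helper6.TCD.Y5U
noncomputable def WI (i : Nat) : Nat := Nat.land (Nat.shiftRight 0x420b60e5b062d8296c10b6065b022d8096c00b4105a072d0316814b4085a032d0116804b4005a012c0016004ac0056012a0015004a40052012800140049c004e0126001300494004a012400120048c004601220011004840042012000100047c003e011e000f00474003a011c000e0046c0036011a000d0046400320118000c0045c002e0116000b00454002a0114000a0044c002601120009004440022011000080043c001e010e000700434001a010c00060042c0016010a00050042400120008000380018000a000400018000800020000 (Nat.mul 17 (Nat.land i 255))) 131071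
end Cfsg.Agent.Lib.Helper6.TCD.Y5U
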