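import Cfsg.Agent.Lib.Helper6.TCD.Y5U.SH
import Cfsg.Agent.Lib.Helper6.TCD.Y5U.SC
import Cfsg.Agent.Lib.Helper6.TCD.Y5U.NH
import Cfsg.Agent.Lib.Helper6.TCD.Y5U.NC
import Cfsg.Agent.Lib.Helper6.TCD.Y5U.WD
import Cfsg.Agent.Lib.Helper6.TCD.Y5U.WI
set_option autoImplicit false
namespace Cfsg.Agent.Lib.Helper6.TCD.Y5U
def n : Nat := 51126
def ncol : Nat := 9
def nrw : Nat := 99
def nw : Nat := 107
def tmax : Nat := 354299
def INV : Nat := 36344967696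
def N : Nat := 28160
end Cfsg.Agent.Lib.Helper6.TCD.Y5U
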