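import Cfsg.Agent.Lib.Helper6.TCD.Y5U.CS0
import Cfsg.Agent.Lib.Helper6.TCD.Y5U.CS1
import Cfsg.Agent.Lib.Helper6.TCD.Y5U.CS2
import Cfsg.Agent.Lib.Helper6.TCD.Y5U.CS3
import Cfsg.Agent.Lib.Helper6.TCD.Y5U.CS4
import Cfsg.Agent.Lib.Helper6.TCD.Y5U.CS5
import Cfsg.Agent.Lib.Helper6.TCD.Y5U.CS6
import Cfsg.Agent.Lib.Helper6.TCD.Y5U.CS7
import Cfsg.Agent.Lib.Helper6.TCD.Y5U.CS8
import Cfsg.Agent.Lib.Helper6.TCD.Y5U.CS9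
import Cfsg.Agent.Lib.Helper6.TCD.Y5U.CS10
import Cfsg.Agent.Lib.Helper6.TCD.Y5U.CS11
import Cfsg.Agent.Lib.Helper6.TCD.Y5U.CS12
import Cfsg.Agent.Lib.Helper6.TCD.Y5U.CS13
import Cfsg.Agent.Lib.Helper6.TCD.Y5U.CS14
import Cfsg.Agent.Lib.Helper6.TCD.Y5U.CS15
import Cfsg.Agent.Lib.Helper6.TCD.Y5U.CS16
import Cfsg.Agent.Lib.Helper6.TCD.Y5U.CS17
import Cfsg.Agent.Lib.Helper6.TCD.Y5U.CS18
import Cfsg.Agent.Lib.Helper6.TCD.Y5U.CS19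
import Cfsg.Agent.Lib.Helper6.TCD.Y5U.CS20
import Cfsg.Agent.Lib.Helper6.TCD.Y5U.CS21
import Cfsg.Agent.Lib.Helper6.TCD.Y5U.CS22
import Cfsg.Agent.Lib.Helper6.TCD.Y5U.CS23
import Cfsg.Agent.Lib.Helper6.TCD.Y5U.CS24
import Cfsg.Agent.Lib.Helper6.TCD.Y5U.CS25
import Cfsg.Agent.Lib.Helper6.TCD.Y5U.CS26
import Cfsg.Agent.Lib.Helper6.TCD.Y5U.CS27
import Cfsg.Agent.Lib.Helper6.TCD.Y5U.CS28
import Cfsg.Agent.Lib.Helper6.TCD.Y5U.CS29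
import Cfsg.Agent.Lib.Helper6.TCD.Y5U.CS30
import Cfsg.Agent.Lib.Helper6.TCD.Y5U.CS31
import Cfsg.Agent.Lib.Helper6.TCD.Y5U.CS32
import Cfsg.Agent.Lib.Helper6.TCD.Y5U.CS33
import Cfsg.Agent.Lib.Helper6.TCD.Y5U.CS34
import Cfsg.Agent.Lib.Helper6.TCD.Y5U.CS35
import Cfsg.Agent.Lib.Helper6.TCD.Y5U.CS36
import Cfsg.Agent.Lib.Helper6.TCD.Y5U.CS37
import Cfsg.Agent.Lib.Helper6.TCD.Y5U.CS38
import Cfsg.Agent.Lib.Helper6.TCD.Y5U.CS39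
import Cfsg.Agent.Lib.Helper6.TCD.Y5U.CS40
import Cfsg.Agent.Lib.Helper6.TCD.Y5U.CS41
import Cfsg.Agent.Lib.Helper6.TCD.Y5U.CS42
import Cfsg.Agent.Lib.Helper6.TCD.Y5U.CS43
import Cfsg.Agent.Lib.Helper6.TCD.Y5U.CS44
import Cfsg.Agent.Lib.Helper6.TCD.Y5U.CS45
import Cfsg.Agent.Lib.Helper6.TCD.Y5U.CS46
import Cfsg.Agent.Lib.Helper6.TCD.Y5U.CS47
import Cfsg.Agent.Lib.Helper6.TCD.Y5U.CS48
import Cfsg.Agent.Lib.Helper6.TCD.Y5U.CS49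
import Cfsg.Agent.Lib.Helper6.TCD.Y5U.CS50
import Cfsg.Agent.Lib.Helper6.TCD.Y5U.CS51
import Cfsg.Agent.Lib.Helper6.TCD.Y5U.CS52
import Cfsg.Agent.Lib.Helper6.TCD.Y5U.CS53
import Cfsg.Agent.Lib.Helper6.TCD.Y5U.CS54
import Cfsg.Agent.Lib.Helper6.TCD.Y5U.CS55
import Cfsg.Agent.Lib.Helper6.TCD.Y5U.CS56
import Cfsg.Agent.Lib.Helper6.TCD.Y5U.CS57
import Cfsg.Agent.Lib.Helper6.TCD.Y5U.CN0
import Cfsg.Agent.Lib.Helper6.TCD.Y5U.CN1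
import Cfsg.Agent.Lib.Helper6.TCD.Y5U.CN2
import Cfsg.Agent.Lib.Helper6.TCD.Y5U.CN3
import Cfsg.Agent.Lib.Helper6.TCD.Y5U.CN4
import Cfsg.Agent.Lib.Helper6.TCD.Y5U.CN5
import Cfsg.Agent.Lib.Helper6.TCD.Y5U.CN6
import Cfsg.Agent.Lib.Helper6.TCD.Y5U.CN7
import Cfsg.Agent.Lib.Helper6.TCD.Y5U.CN8
import Cfsg.Agent.Lib.Helper6.TCD.Y5U.CC
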